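import Mathlib
import Groth.Agent.DomDVR.KrullAkizuki

/-! Multiplicity bound for generators of torsion-free modules over one-dimensional local domains. -/

namespace Groth.Agent.TFLib

universe u v

open scoped Pointwise

theorem length_add_quotient {R : Type u} [CommRing R] {M : Type v} [AddCommGroup M] [Module R M]
    (P Q : Submodule R M) (h : P ≤ Q) :
    Module.length R (M ⧸ P) = Module.length R (Q.map P.mkQ) + Module.length R (M ⧸ Q) := by
  refine Module.length_eq_add_of_exact (Q.map P.mkQ).subtype (Submodule.factor h) Subtype.val_injective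
    (Submodule.factor_surjective h) ?_
  intro z
  induction z using Submodule.Quotient.induction_on with
  | H x =>
    constructor
    · intro hx
      exact ⟨⟨_, Submodule.mem_map_of_mem ((Submodule.Quotient.mk_eq_zero Q).mp hx)⟩, rfl⟩
    · rintro ⟨⟨_, ⟨y, hy, rfl⟩⟩, hx⟩
      rw [← hx]
      exact (Submodule.Quotient.mk_eq_zero Q).mpr hy

/-- `length (N/aN)` does not change in passing to a submodule of finite colength. -/
theorem length_quot_smul_eq {R : Type u} [CommRing R] {N : Type v} [AddCommGroup N] [Module R N]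
    (N' : Submodule R N) {a : R} (ha : Function.Injective fun x : N => a • x)
    (hfin : Module.length R (N ⧸ N') ≠ ⊤) :
    Module.length R (N ⧸ (a • ⊤ : Submodule R N)) = Module.length R (N' ⧸ (a • ⊤ : Submodule R N')) := by
  let l : N →ₗ[R] N := LinearMap.lsmul R N a
  let P : Submodule R N := N'.map l
  have hP1 : P ≤ (a • ⊤ : Submodule R N) := fun y hy => by
    obtain ⟨x, -, rfl⟩ := hy
    exact Submodule.smul_mem_pointwise_smul x a ⊤ trivial
  have hP2 : P ≤ N' := fun y hy => by
    obtain ⟨x, hx, rfl⟩ := hy
    exact N'.smul_mem a hx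
  have h1 := length_add_quotient P (a • ⊤) hP1
  have h2 := length_add_quotient P N' hP2
  have e1 : Module.length R ((a • ⊤ : Submodule R N).map P.mkQ) = Module.length R (N ⧸ N') := by
    let f : N →ₗ[R] N ⧸ P := P.mkQ ∘ₗ l
    have hr : LinearMap.range f = (a • ⊤ : Submodule R N).map P.mkQ := by
      ext z; constructor
      · rintro ⟨x, rfl⟩; exact ⟨_, Submodule.smul_mem_pointwise_smul x a ⊤ trivial, rfl⟩
      · rintro ⟨y, hy, rfl⟩
        obtain ⟨x, -, rfl⟩ := (Submodule.mem_smul_pointwise_iff_exists y a ⊤).mp hy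
        exact ⟨x, rfl⟩
    have hk : LinearMap.ker f = N' := by
      ext x
      simp only [f, LinearMap.mem_ker, LinearMap.comp_apply, Submodule.mkQ_apply, Submodule.Quotient.mk_eq_zero, P]
      refine ⟨fun ⟨y, hy, hyx⟩ => ?_, fun hx => ⟨x, hx, rfl⟩⟩
      rwa [ha (show a • y = a • x from hyx)] at hy
    rw [← hr, ← f.quotKerEquivRange.length_eq, hk]
  have e2 : Module.length R (N'.map P.mkQ) = Module.length R (N' ⧸ (a • ⊤ : Submodule R N')) := by
    let f : N' →ₗ[R] N ⧸ P := P.mkQ ∘ₗ N'.subtype
    have hr : LinearMap.range f = N'.map P.mkQ := by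
      rw [LinearMap.range_comp, Submodule.range_subtype]
    have hk : LinearMap.ker f = (a • ⊤ : Submodule R N') := by
      ext x
      simp only [f, LinearMap.mem_ker, LinearMap.comp_apply, Submodule.mkQ_apply, Submodule.Quotient.mk_eq_zero, P,
        Submodule.subtype_apply, Submodule.mem_smul_pointwise_iff_exists]
      refine ⟨fun ⟨y, hy, hyx⟩ => ⟨⟨y, hy⟩, trivial, Subtype.ext hyx⟩, ?_⟩
      rintro ⟨y, -, rfl⟩
      exact ⟨y, y.2, rfl⟩
    rw [← hr, ← f.quotKerEquivRange.length_eq, hk]
  rw [e1, add_comm] at h1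
  rw [e2, h1] at h2
  exact (WithTop.add_right_inj hfin).mp h2

variable {R : Type u} [CommRing R] [IsDomain R] [IsNoetherianRing R] [Ring.KrullDimLE 1 R]

/-- Finitely generated modules killed by a nonzero element have finite length. -/
theorem length_ne_top_of_smul_eq_zero {Q : Type v} [AddCommGroup Q] [Module R Q] [Module.Finite R Q] {r : R}
    (hr : r ≠ 0) (h : ∀ q : Q, r • q = 0) : Module.length R Q ≠ ⊤ := by
  classical
  obtain ⟨n, v, hv⟩ := Module.Finite.exists_fin (R := R) (M := Q)
  let f : (Fin n → R ⧸ Ideal.span {r}) →ₗ[R] Q :=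
    ∑ i, (Submodule.liftQ _ (LinearMap.toSpanSingleton R Q (v i)) (by
      intro x hx
      obtain ⟨c, rfl⟩ := Ideal.mem_span_singleton'.mp hx
      rw [LinearMap.mem_ker, LinearMap.toSpanSingleton_apply, mul_smul, h, smul_zero])).comp (LinearMap.proj i)
  have hf : Function.Surjective f := by
    rw [← LinearMap.range_eq_top, eq_top_iff, ← hv, Submodule.span_le]
    rintro _ ⟨i, rfl⟩
    refine ⟨Pi.single i (Submodule.Quotient.mk 1), ?_⟩
    simp only [f, LinearMap.coe_sum, Finset.sum_apply, LinearMap.comp_apply, LinearMap.proj_apply]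
    rw [Finset.sum_eq_single i (fun j _ hj => by rw [Pi.single_eq_of_ne hj, map_zero])
      (fun h => absurd (Finset.mem_univ i) h), Pi.single_eq_same]
    exact (Submodule.liftQ_apply _ _ _).trans (one_smul R _)
  refine ne_top_of_le_ne_top ?_ (Module.length_le_of_surjective f hf)
  rw [Module.length_pi_of_fintype]
  refine (ENat.sum_lt_top.mpr fun i _ => ?_).ne
  exact lt_top_iff_ne_top.mpr (Ring.ord_ne_top (mem_nonZeroDivisors_of_ne_zero hr))

theorem length_quot_smul_le_finrank_mul {K : Type u} [Field K] [Algebra R K] [IsFractionRing R K]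
    {M : Type u} [AddCommGroup M] [Module R M] [Module.Finite R M] [NoZeroSMulDivisors R M] {n : ℕ}
    (hn : Module.finrank K (TensorProduct R K M) = n) {a : R} (ha : a ≠ 0) :
    Module.length R (M ⧸ (a • ⊤ : Submodule R M)) = n * Ring.ord R a := by
  classical
  let ι : M →ₗ[R] TensorProduct R K M := TensorProduct.mk R K M 1
  haveI hloc : IsLocalizedModule (nonZeroDivisors R) ι :=
    (isLocalizedModule_iff_isBaseChange (nonZeroDivisors R) K _).mpr (TensorProduct.isBaseChange R M K)
  let b₀ := Module.finBasisOfFinrankEq K (TensorProduct R K M) hn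
  choose x hx using fun i => IsLocalizedModule.surj (nonZeroDivisors R) ι (b₀ i)
  let g : (Fin n → R) →ₗ[R] M := Fintype.linearCombination R fun i => (x i).1
  have hli : LinearIndependent K fun i => ι (x i).1 := by
    have : (fun i => ι (x i).1) = fun i => algebraMap R K ((x i).2 : R) • b₀ i :=
      funext fun i => by rw [← hx i, algebraMap_smul]; rfl
    rw [this]
    exact b₀.linearIndependent.units_smul fun i =>
      (isUnit_iff_ne_zero.mpr (IsFractionRing.to_map_ne_zero_of_mem_nonZeroDivisors (x i).2.2)).unit
  have hg : Function.Injective g := by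
    have h1 : LinearIndependent R fun i => (x i).1 :=
      (hli.restrict_scalars' R).of_comp ι
    exact Fintype.linearIndependent_iffₛ.mp h1 |> fun h u w huw => funext (h u w (by simpa [g, Fintype.linearCombination_apply] using huw))
  let N' := LinearMap.range g
  have hq : Module.length R (M ⧸ N') ≠ ⊤ := by
    obtain ⟨m, v, hv⟩ := Module.Finite.exists_fin (R := R) (M := M)
    have hkill : ∀ y : M, ∃ r : R, r ≠ 0 ∧ r • y ∈ N' := fun y => by
      let b := Module.Basis.mk hli (by
        have h := hli.span_eq_top_of_card_eq_finrank' (by rw [Fintype.card_fin, hn])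
        rw [h])
      obtain ⟨c, hc⟩ := IsLocalization.exist_integer_multiples (nonZeroDivisors R) Finset.univ (fun i => b.repr (ι y) i)
      choose z hz using fun i => hc i (Finset.mem_univ i)
      have h1 : ι ((c : R) • y) = ι (g z) := by
        rw [map_smul, ← b.sum_repr (ι y), Finset.smul_sum]
        simp only [g, Fintype.linearCombination_apply, map_sum, map_smul]
        refine Finset.sum_congr rfl fun i _ => ?_
        rw [← smul_assoc, ← hz i, algebraMap_smul, Module.Basis.mk_apply]
      obtain ⟨d, hd⟩ := (IsLocalizedModule.eq_iff_exists (nonZeroDivisors R) ι).mp h1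
      exact ⟨(d : R) * c, mul_ne_zero (nonZeroDivisors.coe_ne_zero d) (nonZeroDivisors.coe_ne_zero c),
        ⟨(d : R) • z, by rw [map_smul, mul_smul]; exact hd.symm⟩⟩
    choose r hr0 hr using fun i => hkill (v i)
    refine length_ne_top_of_smul_eq_zero (r := ∏ i, r i) (Finset.prod_ne_zero_iff.mpr fun i _ => hr0 i) fun q => ?_
    obtain ⟨y, rfl⟩ := N'.mkQ_surjective q
    have hy : y ∈ Submodule.span R (Set.range v) := hv ▸ Submodule.mem_top
    rw [← map_smul, Submodule.mkQ_apply, Submodule.Quotient.mk_eq_zero]
    induction hy using Submodule.span_induction with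
    | mem w hw =>
      obtain ⟨i, rfl⟩ := hw
      rw [← Finset.prod_erase_mul _ r (Finset.mem_univ i), mul_smul]
      exact N'.smul_mem _ (hr i)
    | zero => rw [smul_zero]; exact zero_mem _
    | add p q _ _ hp hq => rw [smul_add]; exact add_mem hp hq
    | smul c w _ hw => rw [smul_comm]; exact N'.smul_mem c hw
  rw [length_quot_smul_eq N' (smul_right_injective M ha) hq]
  let e := LinearEquiv.ofInjective g hg
  let q : (Fin n → R) →ₗ[R] (Fin n → R ⧸ Ideal.span {a}) :=
    LinearMap.pi fun i => (Submodule.mkQ (Ideal.span {a})) ∘ₗ LinearMap.proj i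
  have hqk : LinearMap.ker q = (a • ⊤ : Submodule R (Fin n → R)) := by
    ext w
    simp only [q, LinearMap.mem_ker, funext_iff, LinearMap.pi_apply, LinearMap.comp_apply, LinearMap.proj_apply,
      Submodule.mkQ_apply, Pi.zero_apply, Submodule.Quotient.mk_eq_zero, Submodule.mem_smul_pointwise_iff_exists,
      Ideal.mem_span_singleton']
    constructor
    · intro h
      choose c hc using h
      exact ⟨c, trivial, fun i => (mul_comm _ _).trans (hc i)⟩
    · rintro ⟨c, -, hc⟩ i
      exact ⟨c i, (mul_comm _ _).trans (hc i)⟩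
  have hqs : Function.Surjective q := fun w => by
    choose c hc using fun i => Submodule.mkQ_surjective _ (w i)
    exact ⟨c, funext hc⟩
  rw [← (Submodule.Quotient.equiv _ (a • ⊤ : Submodule R N') e (by
      rw [Submodule.map_pointwise_smul, Submodule.map_top, LinearEquiv.range])).length_eq, ← hqk,
    (q.quotKerEquivOfSurjective hqs).length_eq, Module.length_pi_of_fintype]
  simp [Ring.ord]

end Groth.Agent.TFLib
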