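import Mathlib

/-! Subspaces of `k[[t]]` and their sets of orders. -/

namespace Groth.Agent.TFLib

open PowerSeries

universe u

variable {k : Type u} [Field k] (S : Submodule k (PowerSeries k))

/-- The set of orders of the nonzero elements of a subspace. -/
def ords : Set ℕ := {n | ∃ f ∈ S, order f = n}

lemma mem_of_dvd {N : ℕ} (hN : ∀ f : PowerSeries k, X ^ N ∣ f → f ∈ S) :
    ∀ j m : ℕ, N ≤ m + j → (∀ n, m ≤ n → n ∈ ords S) → ∀ f : PowerSeries k, X ^ m ∣ f → f ∈ S := by
  intro j
  induction j with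
  | zero => exact fun m hm _ f hf => hN f ((pow_dvd_pow _ (by omega)).trans hf)
  | succ j ih =>
    intro m hm hall f hf
    obtain ⟨p, hp, hpo⟩ := hall m le_rfl
    obtain ⟨hp1, hp2⟩ := order_eq_nat.mp hpo
    have hdiv : X ^ (m + 1) ∣ f - (coeff m f / coeff m p) • p := by
      rw [X_pow_dvd_iff]
      intro i hi
      rcases Nat.lt_succ_iff_lt_or_eq.mp hi with h | rfl
      · simp [hp2 i h, X_pow_dvd_iff.mp hf i h]
      · simp [div_mul_cancel₀ _ hp1]
    have := S.add_mem (ih (m + 1) (by omega) (fun n hn => hall n (by omega)) _ hdiv)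
      (S.smul_mem (coeff m f / coeff m p) hp)
    rwa [sub_add_cancel] at this

theorem finrank_quotient_eq_ncard {N : ℕ} (hN : ∀ f : PowerSeries k, X ^ N ∣ f → f ∈ S) :
    (ords S)ᶜ.Finite ∧ Module.finrank k (PowerSeries k ⧸ S) = (ords S)ᶜ.ncard := by
  classical
  have hlt : ∀ g ∈ (ords S)ᶜ, g < N := fun g hg => by
    by_contra h
    exact hg ⟨X ^ g, hN _ (pow_dvd_pow _ (not_lt.mp h)), order_X_pow g⟩
  have hfin : (ords S)ᶜ.Finite := (Set.finite_Iio N).subset hlt
  refine ⟨hfin, ?_⟩
  let v : ↥(ords S)ᶜ → PowerSeries k ⧸ S := fun g => S.mkQ (X ^ (g : ℕ))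
  haveI := hfin.fintype
  have hli : LinearIndependent k v := by
    rw [Fintype.linearIndependent_iff]
    intro a ha i
    by_contra hai
    let F : PowerSeries k := ∑ g : ↥(ords S)ᶜ, a g • (X : PowerSeries k) ^ (g : ℕ)
    have hFA : F ∈ S := by
      have h1 : S.mkQ F = 0 := by rw [map_sum]; simpa [v, map_smul] using ha
      exact (Submodule.Quotient.mk_eq_zero S).mp h1
    have hcoef : ∀ g : ↥(ords S)ᶜ, coeff (g : ℕ) F = a g := fun g => by
      simp only [F, map_sum, coeff_smul, coeff_X_pow, smul_eq_mul]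
      rw [Finset.sum_eq_single g (fun b _ hb => by rw [if_neg (fun h => hb (Subtype.ext h.symm)), mul_zero])
        (fun h => absurd (Finset.mem_univ g) h), if_pos rfl, mul_one]
    have hF0 : F ≠ 0 := fun h => hai (by rw [← hcoef, h, map_zero])
    obtain ⟨e, he⟩ := ENat.ne_top_iff_exists.mp (order_eq_top.not.mpr hF0)
    refine (order_eq_nat.mp he.symm).1 ?_
    simp only [F, map_sum, coeff_smul, coeff_X_pow, smul_eq_mul]
    exact Finset.sum_eq_zero fun g _ => by
      rw [if_neg (fun h : e = (g : ℕ) => g.2 (h ▸ ⟨F, hFA, he.symm⟩)), mul_zero]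
  have hspan : ⊤ ≤ Submodule.span k (Set.range v) := by
    have key : ∀ j m : ℕ, N ≤ m + j → ∀ f : PowerSeries k, X ^ m ∣ f →
        S.mkQ f ∈ Submodule.span k (Set.range v) := by
      intro j
      induction j with
      | zero =>
        intro m hm f hf
        rw [show S.mkQ f = 0 from (Submodule.Quotient.mk_eq_zero S).mpr (hN f ((pow_dvd_pow _ (by omega)).trans hf))]
        exact zero_mem _
      | succ j ih =>
        intro m hm f hf
        have hstep : ∀ p : PowerSeries k, X ^ m ∣ p → coeff m p ≠ 0 →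
            X ^ (m + 1) ∣ f - (coeff m f / coeff m p) • p := by
          intro p hp hp0
          rw [X_pow_dvd_iff]
          intro i hi
          rcases Nat.lt_succ_iff_lt_or_eq.mp hi with h | rfl
          · simp [X_pow_dvd_iff.mp hp i h, X_pow_dvd_iff.mp hf i h]
          · simp [div_mul_cancel₀ _ hp0]
        by_cases hm' : m ∈ ords S
        · obtain ⟨p, hp, hpo⟩ := hm'
          obtain ⟨hp1, hp2⟩ := order_eq_nat.mp hpo
          have h := ih (m + 1) (by omega) _ (hstep p (X_pow_dvd_iff.mpr hp2) hp1)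
          rw [map_sub, map_smul, show S.mkQ p = 0 from (Submodule.Quotient.mk_eq_zero S).mpr hp, smul_zero,
            sub_zero] at h
          exact h
        · have h := ih (m + 1) (by omega) _ (hstep (X ^ m) dvd_rfl (by simp))
          rw [map_sub, map_smul] at h
          have h2 := Submodule.smul_mem (Submodule.span k (Set.range v))
            (coeff m f / coeff m (X ^ m)) (Submodule.subset_span (Set.mem_range_self (f := v) ⟨m, hm'⟩))
          simpa [v] using add_mem h h2
    intro x _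
    obtain ⟨f, rfl⟩ := S.mkQ_surjective x
    exact key N 0 (by omega) f (by rw [pow_zero]; exact one_dvd f)
  rw [Module.finrank_eq_card_basis (Module.Basis.mk hli hspan), Set.ncard_eq_toFinset_card' (ords S)ᶜ,
    Set.toFinset_card]

theorem le_add_of_semimodule {Γ Δ : Set ℕ} (hΓ : Γᶜ.Finite) (hΔ : Δᶜ.Finite)
    (hadd : ∀ x ∈ Γ, ∀ y ∈ Δ, x + y ∈ Δ) :
    ∃ c, (∀ n, c ≤ n → n ∈ Δ) ∧ c ≤ Γᶜ.ncard + Δᶜ.ncard := by
  classical
  obtain ⟨M, hM⟩ := hΔ.bddAbove
  have hex : ∃ c, ∀ n, c ≤ n → n ∈ Δ := ⟨M + 1, fun n hn => by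
    by_contra h; exact absurd (hM h) (by omega)⟩
  refine ⟨Nat.find hex, Nat.find_spec hex, ?_⟩
  rcases Nat.eq_zero_or_pos (Nat.find hex) with h | h
  · omega
  have hnot : Nat.find hex - 1 ∉ Δ := fun hmem => Nat.find_min hex (Nat.sub_lt h one_pos) fun n hn => by
    rcases eq_or_lt_of_le hn with rfl | hlt
    · exact hmem
    · exact Nat.find_spec hex n (by omega)
  set c := Nat.find hex
  let A := (Finset.range c).filter (· ∈ Γ)
  have h1 : A.card ≤ Δᶜ.ncard := by
    rw [← Set.ncard_coe_finset]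
    refine Set.ncard_le_ncard_of_injOn (fun x => c - 1 - x) (fun x hx => ?_) (fun x hx y hy hxy => ?_) hΔ
    · simp only [A, Finset.coe_filter, Finset.mem_range, Set.mem_setOf_eq] at hx
      intro hmem
      exact hnot (by have := hadd x hx.2 _ hmem; rwa [Nat.add_sub_cancel' (by omega)] at this)
    · simp only [A, Finset.coe_filter, Finset.mem_range, Set.mem_setOf_eq] at hx hy
      simp only at hxy
      omega
  have h2 : ((Finset.range c).filter (· ∉ Γ)).card ≤ Γᶜ.ncard := by
    rw [← Set.ncard_coe_finset]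
    exact Set.ncard_le_ncard (fun x hx => by simp at hx; exact hx.2) hΓ
  have h3 := (Finset.card_filter_add_card_filter_not (s := Finset.range c) (p := (· ∈ Γ))).trans (Finset.card_range c)
  have h4 : A.card = ((Finset.range c).filter (· ∈ Γ)).card := rfl
  omega

theorem ncard_compl_add_image {Δ : Set ℕ} (hΔ : Δᶜ.Finite) (j : ℕ) :
    (((fun n => n + j) '' Δ))ᶜ.ncard = Δᶜ.ncard + j := by
  classical
  have heq : ((fun n => n + j) '' Δ)ᶜ = Set.Iio j ∪ (fun n => n + j) '' Δᶜ := by
    ext x
    simp only [Set.mem_compl_iff, Set.mem_image, Set.mem_union, Set.mem_Iio]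
    constructor
    · intro h
      rcases lt_or_ge x j with hx | hx
      · exact Or.inl hx
      · exact Or.inr ⟨x - j, fun hm => h ⟨x - j, hm, Nat.sub_add_cancel hx⟩, Nat.sub_add_cancel hx⟩
    · rintro (hx | ⟨y, hy, rfl⟩) ⟨z, hz, hzx⟩
      · omega
      · exact hy ((by omega : y = z) ▸ hz)
  rw [heq, Set.ncard_union_eq (by
    rw [Set.disjoint_left]; rintro x hx ⟨y, -, rfl⟩; simp at hx) (Set.finite_Iio j) (hΔ.image _),
    Set.ncard_image_of_injective _ (fun a b h => by simpa using h), Set.ncard_eq_toFinset_card' (Set.Iio j)]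
  simp [add_comm]

end Groth.Agent.TFLib
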