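import Mathlib

/-! Torsion-free modules of rank one embed into the ring. -/

namespace Groth.Agent.TFLib

universe u

theorem exists_injective_of_rankOne (A : Type u) [CommRing A] [IsDomain A] (M : Type u) [AddCommGroup M]
    [Module A M] [Module.Finite A M] [NoZeroSMulDivisors A M]
    (hrk : Module.finrank (FractionRing A) (TensorProduct A (FractionRing A) M) = 1) :
    ∃ ψ : M →ₗ[A] A, Function.Injective ψ ∧ ∃ x, ψ x ≠ 0 := by
  classical
  let F := FractionRing A
  let T := TensorProduct A F M
  let b := Module.finBasisOfFinrankEq F T hrk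
  let φ : M →ₗ[A] F := ((b.coord 0).restrictScalars A) ∘ₗ (TensorProduct.mk A F M 1)
  haveI : IsLocalizedModule (nonZeroDivisors A) (TensorProduct.mk A F M 1) :=
    (isLocalizedModule_iff_isBaseChange (nonZeroDivisors A) F _).mpr (TensorProduct.isBaseChange A M F)
  have hφ : Function.Injective φ := by
    rw [← LinearMap.ker_eq_bot, LinearMap.ker_eq_bot']
    intro x hx
    have hx1 : b.repr (TensorProduct.mk A F M 1 x) 0 = 0 := hx
    have hx2 : TensorProduct.mk A F M 1 x = 0 := by
      refine b.repr.map_eq_zero_iff.mp (Finsupp.ext fun i => ?_)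
      rw [Subsingleton.elim i 0]; exact hx1
    obtain ⟨c, hc⟩ := (IsLocalizedModule.eq_zero_iff (nonZeroDivisors A) (TensorProduct.mk A F M 1)).mp hx2
    exact (smul_eq_zero.mp hc).resolve_left (nonZeroDivisors.coe_ne_zero c)
  obtain ⟨s, hs⟩ := (inferInstance : Module.Finite A M).fg_top
  obtain ⟨d, hd⟩ := IsLocalization.exist_integer_multiples (nonZeroDivisors A) s (fun x => φ x)
  have hint : ∀ x : M, ∃ a : A, algebraMap A F a = (d : A) • φ x := fun x => by
    have hx : x ∈ Submodule.span A (s : Set M) := hs ▸ Submodule.mem_top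
    induction hx using Submodule.span_induction with
    | mem y hy => exact hd y hy
    | zero => exact ⟨0, by simp⟩
    | add y z _ _ hy hz =>
      obtain ⟨a, ha⟩ := hy; obtain ⟨a', ha'⟩ := hz
      exact ⟨a + a', by rw [map_add, ha, ha', map_add, smul_add]⟩
    | smul r y _ hy =>
      obtain ⟨a, ha⟩ := hy
      exact ⟨r * a, by rw [map_smul, smul_comm, ← ha, map_mul, Algebra.smul_def]⟩
  choose a ha using hint
  refine ⟨{ toFun := a
            map_add' := fun x y => IsFractionRing.injective A F (by rw [map_add, ha, ha, ha, map_add, smul_add])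
            map_smul' := fun r x => IsFractionRing.injective A F (by
              rw [RingHom.id_apply, smul_eq_mul, map_mul, ha, ha, map_smul, smul_comm, Algebra.smul_def r]) },
    fun x y hxy => hφ ?_, ?_⟩
  · have h1 : (d : A) • φ x = (d : A) • φ y := by rw [← ha, ← ha]; exact congrArg _ hxy
    exact smul_right_injective F (nonZeroDivisors.coe_ne_zero d) h1
  · by_contra h
    push Not at h
    haveI : Subsingleton M := ⟨fun x y => hφ (smul_right_injective F (nonZeroDivisors.coe_ne_zero d)
      (show (d : A) • φ x = (d : A) • φ y by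
        rw [← ha, ← ha]; exact congrArg _ ((h x).trans (h y).symm)))⟩
    exact absurd (hrk.symm.trans (Module.finrank_zero_of_subsingleton (R := F) (M := T))) one_ne_zero

end Groth.Agent.TFLib
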